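import Mathlib

/-!
# `p`-adic valuations of `∏_{a=1}^g (ℓ^{2a} - 1)` (Minkowski's bound)
-/

set_option autoImplicit false

open Finset

namespace Minkowski

/-- valuation of a finite product of nonzero naturals -/
theorem padicValNat_prod {ι : Type*} {p : ℕ} (hp : p.Prime) (s : Finset ι) (f : ι → ℕ)
    (hf : ∀ i ∈ s, f i ≠ 0) : padicValNat p (∏ i ∈ s, f i) = ∑ i ∈ s, padicValNat p (f i) := by
  rw [← Nat.factorization_def _ hp, Nat.factorization_prod hf, Finsupp.finsetSum_apply]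
  exact Finset.sum_congr rfl fun i _ => Nat.factorization_def _ hp

theorem padicValNat_factorial {p : ℕ} (hp : p.Prime) (g : ℕ) :
    padicValNat p g.factorial = ∑ i ∈ Icc 1 g, padicValNat p i := by
  have : g.factorial = ∏ i ∈ Icc 1 g, i := by
    induction g with
    | zero => simp
    | succ n ih => rw [Nat.factorial_succ, Finset.prod_Icc_succ_top (by omega), ← ih, mul_comm]
  rw [this, padicValNat_prod hp]
  intro i hi
  simp only [mem_Icc] at hi
  omega

theorem pow_sub_one_ne_zero {l : ℕ} (hl : 2 ≤ l) {n : ℕ} (hn : n ≠ 0) : l ^ n - 1 ≠ 0 := by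
  have : 1 < l ^ n := Nat.one_lt_pow hn (by omega)
  omega

/-- the product -/
def P (l g : ℕ) : ℕ := ∏ a ∈ Icc 1 g, (l ^ (2 * a) - 1)

theorem P_ne_zero {l : ℕ} (hl : 2 ≤ l) (g : ℕ) : P l g ≠ 0 := by
  unfold P
  rw [Finset.prod_ne_zero_iff]
  intro a ha
  simp only [mem_Icc] at ha
  exact pow_sub_one_ne_zero hl (by omega)

theorem val_P {p : ℕ} (hp : p.Prime) {l : ℕ} (hl : 2 ≤ l) (g : ℕ) :
    padicValNat p (P l g) = ∑ a ∈ Icc 1 g, padicValNat p (l ^ (2 * a) - 1) := by
  apply padicValNat_prod hp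
  intro a ha
  simp only [mem_Icc] at ha
  exact pow_sub_one_ne_zero hl (by omega)

/-- case `p = 2` -/
theorem val_two {l : ℕ} (hl : 2 ≤ l) (hodd : Odd l) (g : ℕ) :
    padicValNat 2 (P l g) =
      g * (padicValNat 2 (l + 1) + padicValNat 2 (l - 1)) + padicValNat 2 g.factorial := by
  haveI : Fact (Nat.Prime 2) := ⟨Nat.prime_two⟩
  rw [val_P Nat.prime_two hl, padicValNat_factorial Nat.prime_two]
  have key : ∀ a ∈ Icc 1 g, padicValNat 2 (l ^ (2 * a) - 1) =
      (padicValNat 2 (l + 1) + padicValNat 2 (l - 1)) + padicValNat 2 a := by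
    intro a ha
    simp only [mem_Icc] at ha
    have h2l : ¬ (2 ∣ l) := by
      rw [← even_iff_two_dvd]
      exact Nat.not_even_iff_odd.mpr hodd
    have hsub : 2 ∣ l - 1 := by omega
    have := padicValNat.pow_two_sub_pow (x := l) (y := 1) (by omega) hsub h2l (n := 2 * a) (by omega)
      (even_two_mul a)
    rw [one_pow, padicValNat.mul (by omega) (by omega), padicValNat.self (by norm_num)] at this
    omega
  rw [Finset.sum_congr rfl key, Finset.sum_add_distrib, Finset.sum_const, smul_eq_mul, Nat.card_Icc]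
  simp

/-- case `p` odd -/
theorem val_odd {p : ℕ} [hp : Fact p.Prime] (hodd : Odd p) {l : ℕ} (hl : 2 ≤ l) (hpl : ¬ p ∣ l)
    (g : ℕ) :
    let t := orderOf ((l : ZMod p) ^ 2)
    padicValNat p (P l g) =
      (g / t) * padicValNat p (l ^ (2 * t) - 1) + ∑ i ∈ Icc 1 (g / t), padicValNat p i := by
  intro t
  have hl0 : (l : ZMod p) ≠ 0 := by
    rw [Ne, ZMod.natCast_eq_zero_iff]
    exact hpl
  have ht0 : 0 < t := by
    apply orderOf_pos_iff.mpr
    rw [isOfFinOrder_iff_pow_eq_one]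
    refine ⟨p - 1, by have := hp.out.two_le; omega, ?_⟩
    rw [← pow_mul, mul_comm, pow_mul, ZMod.pow_card_sub_one_eq_one hl0, one_pow]
  have hiff : ∀ a : ℕ, p ∣ l ^ (2 * a) - 1 ↔ t ∣ a := by
    intro a
    rw [← ZMod.natCast_eq_zero_iff, Nat.cast_sub (Nat.one_le_pow _ _ (by omega)), Nat.cast_pow,
      Nat.cast_one, sub_eq_zero, pow_mul, orderOf_dvd_iff_pow_eq_one]
  have hmult : ∀ a ∈ Icc 1 g, padicValNat p (l ^ (2 * a) - 1) =
      if t ∣ a then padicValNat p (l ^ (2 * t) - 1) + padicValNat p (a / t) else 0 := by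
    intro a ha
    simp only [mem_Icc] at ha
    split_ifs with h
    · obtain ⟨i, rfl⟩ := h
      have hi : i ≠ 0 := by
        rintro rfl
        omega
      rw [Nat.mul_div_cancel_left _ ht0]
      have hlt : 1 < l ^ (2 * t) := Nat.one_lt_pow (by omega) (by omega)
      have hdx : ¬ p ∣ l ^ (2 * t) := fun h => hpl (hp.out.dvd_of_dvd_pow h)
      have := padicValNat.pow_sub_pow (x := l ^ (2 * t)) (y := 1) hodd hlt ((hiff t).2 dvd_rfl) hdx
        (n := i) hi
      rw [one_pow, ← pow_mul] at this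
      rwa [show 2 * (t * i) = 2 * t * i by ring]
    · apply padicValNat.eq_zero_of_not_dvd
      rw [hiff]
      exact h
  rw [val_P hp.out hl, Finset.sum_congr rfl hmult, ← Finset.sum_filter]
  have hset : (Icc 1 g).filter (fun a => t ∣ a) = (Icc 1 (g / t)).image (fun i => t * i) := by
    ext a
    simp only [mem_filter, mem_Icc, mem_image]
    constructor
    · rintro ⟨⟨h1, h2⟩, i, rfl⟩
      refine ⟨i, ⟨?_, (Nat.le_div_iff_mul_le ht0).2 (by rw [mul_comm]; exact h2)⟩, rfl⟩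
      rcases Nat.eq_zero_or_pos i with rfl | h
      · omega
      · exact h
    · rintro ⟨i, ⟨h1, h2⟩, rfl⟩
      refine ⟨⟨?_, ?_⟩, Dvd.intro _ rfl⟩
      · calc 1 = 1 * 1 := rfl
          _ ≤ t * i := Nat.mul_le_mul ht0 h1
      · calc t * i ≤ t * (g / t) := Nat.mul_le_mul_left _ h2
          _ ≤ g := Nat.mul_div_le g t
  rw [hset, Finset.sum_image (fun a _ b _ h => Nat.eq_of_mul_eq_mul_left ht0 h)]
  simp only [Nat.mul_div_cancel_left _ ht0]
  rw [Finset.sum_add_distrib, Finset.sum_const, smul_eq_mul, Nat.card_Icc]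
  simp

/-- the exponent of the bound at an odd prime -/
def oddExp (p g : ℕ) : ℕ :=
  (2 * g) / (p - 1) + ∑ i ∈ Icc 1 ((2 * g) / (p - 1)), padicValNat p i

theorem half_div {p g : ℕ} (hodd : Odd p) : g / ((p - 1) / 2) = (2 * g) / (p - 1) := by
  obtain ⟨k, rfl⟩ := hodd
  rw [show 2 * k + 1 - 1 = 2 * k by omega, Nat.mul_div_cancel_left _ (by norm_num),
    Nat.mul_div_mul_left _ _ (by norm_num)]

theorem oddExp_le {p : ℕ} [hp : Fact p.Prime] (hodd : Odd p) {l : ℕ} (hl : 2 ≤ l) (hpl : ¬ p ∣ l)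
    (g : ℕ) : oddExp p g ≤ padicValNat p (P l g) := by
  rw [val_odd hodd hl hpl g]
  set t := orderOf ((l : ZMod p) ^ 2) with ht
  have hl0 : (l : ZMod p) ≠ 0 := by
    rw [Ne, ZMod.natCast_eq_zero_iff]
    exact hpl
  have h2 : 2 * ((p - 1) / 2) = p - 1 := by
    obtain ⟨k, hk⟩ := hodd
    omega
  have hp3 : 3 ≤ p := by
    have := hp.out.two_le
    obtain ⟨k, hk⟩ := hodd
    omega
  have hdvd : t ∣ (p - 1) / 2 := by
    rw [ht, orderOf_dvd_iff_pow_eq_one, ← pow_mul, h2, ZMod.pow_card_sub_one_eq_one hl0]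
  have hle : t ≤ (p - 1) / 2 := Nat.le_of_dvd (by omega) hdvd
  have ht0 : 0 < t := Nat.pos_of_dvd_of_pos hdvd (by omega)
  have hm : (2 * g) / (p - 1) ≤ g / t := by
    rw [← half_div hodd]
    exact Nat.div_le_div_left hle ht0
  have he : 1 ≤ padicValNat p (l ^ (2 * t) - 1) := by
    refine one_le_padicValNat_of_dvd (pow_sub_one_ne_zero hl (by omega)) ?_
    rw [← ZMod.natCast_eq_zero_iff, Nat.cast_sub (Nat.one_le_pow _ _ (by omega)), Nat.cast_pow,
      Nat.cast_one, sub_eq_zero, pow_mul]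
    exact pow_orderOf_eq_one _
  exact add_le_add (hm.trans (Nat.le_mul_of_pos_right _ he))
    (Finset.sum_le_sum_of_subset (Finset.Icc_subset_Icc le_rfl hm))

theorem exists_prime_val_odd {p : ℕ} [hp : Fact p.Prime] (hodd : Odd p) (g B : ℕ) :
    ∃ l : ℕ, l.Prime ∧ B < l ∧ padicValNat p (P l g) = oddExp p g := by
  have hp3 : 3 ≤ p := by
    have := hp.out.two_le
    obtain ⟨k, hk⟩ := hodd
    omega
  haveI : NeZero (p ^ 2) := ⟨by positivity⟩
  haveI : IsCyclic (ZMod (p ^ 2))ˣ := ZMod.isCyclic_units_of_prime_pow p hp.out (by omega) 2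
  obtain ⟨u, hu⟩ := IsCyclic.exists_generator (α := (ZMod (p ^ 2))ˣ)
  obtain ⟨l, hlB, hl, hlu⟩ :=
    Nat.forall_exists_prime_gt_and_eq_mod (q := p ^ 2) (a := (u : ZMod (p ^ 2))) u.isUnit (max B p)
  refine ⟨l, hl, (le_max_left _ _).trans_lt hlB, ?_⟩
  have hpl : ¬ p ∣ l := fun h => by
    have := (Nat.prime_dvd_prime_iff_eq hp.out hl).1 h
    have := le_max_right B p
    omega
  have hl2 := hl.two_le
  have hl0 : (l : ZMod p) ≠ 0 := by
    rw [Ne, ZMod.natCast_eq_zero_iff]
    exact hpl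
  have hordu : orderOf (l : ZMod (p ^ 2)) = p * (p - 1) := by
    rw [hlu, orderOf_units, orderOf_eq_card_of_forall_mem_zpowers hu, Nat.card_eq_fintype_card,
      ZMod.card_units_eq_totient, Nat.totient_prime_pow hp.out (by norm_num)]
    simp [mul_comm]
  have hord : orderOf (l : ZMod p) = p - 1 := by
    apply Nat.dvd_antisymm
    · rw [orderOf_dvd_iff_pow_eq_one, ZMod.pow_card_sub_one_eq_one hl0]
    · set s := orderOf (l : ZMod p)
      have h1 : (p : ℤ) ∣ (l : ℤ) ^ s - 1 := by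
        rw [← ZMod.intCast_zmod_eq_zero_iff_dvd]
        push_cast
        rw [pow_orderOf_eq_one, sub_self]
      have h2 : (p : ℤ) ^ (1 + 1) ∣ ((l : ℤ) ^ s) ^ (p ^ 1) - 1 ^ (p ^ 1) :=
        dvd_sub_pow_of_dvd_sub (by simpa using h1) 1
      have h3 : (l : ZMod (p ^ 2)) ^ (s * p) = 1 := by
        rw [pow_one, one_pow, ← pow_mul] at h2
        have h4 : (((l : ℤ) ^ (s * p) - 1 : ℤ) : ZMod (p ^ 2)) = 0 := by
          rw [ZMod.intCast_zmod_eq_zero_iff_dvd]
          exact_mod_cast h2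
        push_cast at h4
        exact sub_eq_zero.1 h4
      rw [← orderOf_dvd_iff_pow_eq_one, hordu, mul_comm s p] at h3
      exact Nat.dvd_of_mul_dvd_mul_left hp.out.pos h3
  have h2 : 2 * ((p - 1) / 2) = p - 1 := by
    obtain ⟨k, hk⟩ := hodd
    omega
  have ht : orderOf ((l : ZMod p) ^ 2) = (p - 1) / 2 := by
    rw [orderOf_pow' _ (by norm_num), hord, Nat.gcd_eq_right ⟨(p - 1) / 2, h2.symm⟩]
  rw [val_odd hodd hl2 hpl g, ht, h2, half_div hodd, oddExp]
  have hv : padicValNat p (l ^ (p - 1) - 1) = 1 := by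
    have hne : l ^ (p - 1) - 1 ≠ 0 := pow_sub_one_ne_zero hl2 (by omega)
    have hd : p ∣ l ^ (p - 1) - 1 := by
      rw [← ZMod.natCast_eq_zero_iff, Nat.cast_sub (Nat.one_le_pow _ _ (by omega)), Nat.cast_pow,
        Nat.cast_one, ZMod.pow_card_sub_one_eq_one hl0, sub_self]
    have hnd : ¬ p ^ 2 ∣ l ^ (p - 1) - 1 := by
      rw [← ZMod.natCast_eq_zero_iff, Nat.cast_sub (Nat.one_le_pow _ _ (by omega)), Nat.cast_pow,
        Nat.cast_one, sub_eq_zero, ← orderOf_dvd_iff_pow_eq_one, hordu]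
      intro h
      have := Nat.le_of_dvd (by omega) h
      have hq : 2 ≤ p - 1 := by omega
      nlinarith
    have h1 := one_le_padicValNat_of_dvd hne hd
    have h2' : ¬ 2 ≤ padicValNat p (l ^ (p - 1) - 1) := fun h =>
      hnd ((padicValNat_dvd_iff_le hne).2 h)
    omega
  rw [hv, mul_one]

theorem twoExp_le {l : ℕ} (hl : 2 ≤ l) (hodd : Odd l) (g : ℕ) :
    3 * g + padicValNat 2 g.factorial ≤ padicValNat 2 (P l g) := by
  haveI : Fact (Nat.Prime 2) := ⟨Nat.prime_two⟩
  rw [val_two hl hodd]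
  have h : 3 ≤ padicValNat 2 (l + 1) + padicValNat 2 (l - 1) := by
    rw [← padicValNat.mul (by omega) (by omega)]
    refine (padicValNat_dvd_iff_le (Nat.mul_ne_zero (by omega) (by omega))).1 ?_
    obtain ⟨k, rfl⟩ := hodd
    obtain ⟨c, hc⟩ := Nat.even_mul_succ_self k
    refine ⟨c, ?_⟩
    rw [Nat.add_sub_cancel]
    calc (2 * k + 1 + 1) * (2 * k) = 4 * (k * (k + 1)) := by ring
      _ = 4 * (c + c) := by rw [hc]
      _ = 2 ^ 3 * c := by ring
  exact Nat.add_le_add_right (by nlinarith) _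

theorem exists_prime_val_two (g B : ℕ) :
    ∃ l : ℕ, l.Prime ∧ B < l ∧ padicValNat 2 (P l g) = 3 * g + padicValNat 2 g.factorial := by
  haveI : Fact (Nat.Prime 2) := ⟨Nat.prime_two⟩
  haveI : NeZero (16 : ℕ) := ⟨by norm_num⟩
  obtain ⟨l, hlB, hl, hl3⟩ :=
    Nat.forall_exists_prime_gt_and_eq_mod (q := 16) (a := (3 : ZMod 16)) (by decide) (max B 2)
  refine ⟨l, hl, (le_max_left _ _).trans_lt hlB, ?_⟩
  have hmod : l % 16 = 3 := by
    have h' : (l : ZMod 16) = ((3 : ℕ) : ZMod 16) := by simpa using hl3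
    have := congrArg ZMod.val h'
    rw [ZMod.val_natCast, ZMod.val_natCast] at this
    simpa using this
  have hodd : Odd l := Nat.odd_iff.2 (by omega)
  rw [val_two hl.two_le hodd]
  have h1 : padicValNat 2 (l + 1) = 2 := by
    rw [show l + 1 = 2 ^ 2 * ((l + 1) / 4) by omega,
      padicValNat.mul (by norm_num) (by omega), padicValNat.prime_pow,
      padicValNat.eq_zero_of_not_dvd (by omega)]
  have h2 : padicValNat 2 (l - 1) = 1 := by
    rw [show l - 1 = 2 ^ 1 * ((l - 1) / 2) by omega,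
      padicValNat.mul (by norm_num) (by omega), padicValNat.prime_pow,
      padicValNat.eq_zero_of_not_dvd (by omega)]
  rw [h1, h2]
  ring

/-- the bound `N(g)` -/
def N (g : ℕ) : ℕ :=
  2 ^ (3 * g + padicValNat 2 g.factorial) *
    ∏ p ∈ (Icc 3 (2 * g + 1)).filter Nat.Prime, p ^ oddExp p g

theorem N_ne_zero (g : ℕ) : N g ≠ 0 := by
  refine Nat.mul_ne_zero (pow_ne_zero _ (by norm_num)) ?_
  rw [Finset.prod_ne_zero_iff]
  intro p hp
  exact pow_ne_zero _ (mem_filter.1 hp).2.ne_zero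

theorem val_N (g p : ℕ) (hp : p.Prime) :
    (N g).factorization p = if p = 2 then 3 * g + padicValNat 2 g.factorial else oddExp p g := by
  have hne : ∏ q ∈ (Icc 3 (2 * g + 1)).filter Nat.Prime, q ^ oddExp q g ≠ 0 := by
    rw [Finset.prod_ne_zero_iff]
    intro q hq
    exact pow_ne_zero _ (mem_filter.1 hq).2.ne_zero
  unfold N
  rw [Nat.factorization_mul (pow_ne_zero _ (by norm_num)) hne, Finsupp.add_apply,
    Nat.Prime.factorization_pow Nat.prime_two,
    Nat.factorization_prod (fun q hq => pow_ne_zero _ (mem_filter.1 hq).2.ne_zero),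
    Finsupp.finsetSum_apply,
    Finset.sum_congr rfl (fun q hq => by rw [Nat.Prime.factorization_pow (mem_filter.1 hq).2]),
    Finsupp.single_apply]
  simp only [Finsupp.single_apply, Finset.sum_ite_eq', mem_filter, mem_Icc]
  by_cases h : p = 2
  · subst h
    simp
  · have hp3 : 3 ≤ p := by have := hp.two_le; omega
    rw [if_neg (Ne.symm h), if_neg h, zero_add]
    by_cases hb : p ≤ 2 * g + 1
    · rw [if_pos ⟨⟨hp3, hb⟩, hp⟩]
    · rw [if_neg (fun h => hb h.1.2)]
      simp [oddExp, Nat.div_eq_of_lt (by omega : 2 * g < p - 1)]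

theorem forall_dvd_iff (g B d : ℕ) (hB : 2 * g + 1 ≤ B) :
    (∀ l : ℕ, l.Prime → B < l → d ∣ P l g) ↔ d ∣ N g := by
  constructor
  · intro h
    obtain ⟨l₀, hl₀B, hl₀⟩ := Nat.exists_infinite_primes (B + 1)
    have hd : d ≠ 0 := by
      rintro rfl
      exact P_ne_zero hl₀.two_le g (Nat.eq_zero_of_zero_dvd (h l₀ hl₀ (by omega)))
    rw [← Nat.factorization_le_iff_dvd hd (N_ne_zero g)]
    intro p
    by_cases hp : p.Prime
    swap
    · simp [Nat.factorization_eq_zero_of_not_prime _ hp]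
    haveI := Fact.mk hp
    have : ∃ l : ℕ, l.Prime ∧ B < l ∧ padicValNat p (P l g) = (N g).factorization p := by
      rw [val_N g p hp]
      split_ifs with h2
      · subst h2
        exact exists_prime_val_two g B
      · exact exists_prime_val_odd (hp.odd_of_ne_two h2) g B
    obtain ⟨l, hl, hlB, hv⟩ := this
    have := (Nat.factorization_le_iff_dvd hd (P_ne_zero hl.two_le g)).2 (h l hl hlB) p
    rwa [Nat.factorization_def (P l g) hp, hv] at this
  · intro h l hl hlB
    refine h.trans ?_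
    rw [← Nat.factorization_le_iff_dvd (N_ne_zero g) (P_ne_zero hl.two_le g)]
    intro p
    by_cases hp : p.Prime
    swap
    · simp [Nat.factorization_eq_zero_of_not_prime _ hp]
    haveI := Fact.mk hp
    by_cases h2 : p = 2
    · subst h2
      rw [val_N g 2 hp, if_pos rfl, Nat.factorization_def _ hp]
      rcases Nat.eq_zero_or_pos g with rfl | hg
      · simp
      exact twoExp_le hl.two_le (hl.odd_of_ne_two (by omega)) g
    · rw [val_N g p hp, if_neg h2, Nat.factorization_def _ hp]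
      by_cases hpl : p ∣ l
      · have := (Nat.prime_dvd_prime_iff_eq hp hl).1 hpl
        subst this
        simp [oddExp, Nat.div_eq_of_lt (by omega : 2 * g < p - 1)]
      · exact oddExp_le (hp.odd_of_ne_two h2) hl.two_le hpl g

end Minkowski
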